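import Groth.Agent.Pic13.K836.GrpFin
import Groth.Agent.Pic13.H965.Kill
import Groth.Agent.Pic13.H703.QC
import Groth.Agent.Pic13.H138.AlgEquiv
import Groth.Agent.Sga3B.KerGrp
import Groth.Agent.S4289
import Groth.Agent.S5681
import Groth.Agent.S11760

/-!
# Classes algebraically equivalent to zero which become trivial

`finite_alg0_ker`: `i : X ⟶ Y` a morphism of proper schemes over an algebraically closed field `k`, `Y` normal. If a
class of `Y` killed by `n`, `n > 1` invertible in `k`, and trivial on `X` is trivial, then only finitely many classes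
on `Y` algebraically equivalent to zero become trivial on `X`.
-/

set_option autoImplicit false
universe u

open CategoryTheory MonoidalCategory CartesianMonoidalCategory MonObj GrpObj AlgebraicGeometry Limits TopologicalSpace
open Groth.Agent Groth.Agent.Books.AlgPts Groth.Agent.Books.AlgPtsGrp K510.TorsGen
open Groth.Agent.Ega3A.PicDiv Groth.Agent.Ega3A.PicEtSh Groth.Agent.Grpsch.PicGrp
open Groth.Agent.Ega3A.PicSheaf Groth.Agent.Ega3A.PicLocBase Groth.Agent.Fga.RigGrp
open Groth.Agent.Pic13.H965.Kill Groth.Agent.Pic13.H965.RelGrp Groth.Agent.Pic13.H138.AlgEquiv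

namespace K836.KerFin

/-- The morphism of Picard schemes induced by a morphism. -/
theorem exists_m {X Y S : Scheme.{u}} {pX : X ⟶ S} {pY : Y ⟶ S} {i : X ⟶ Y} (hi : i ≫ pY = pX) {PY PX : Over S}
    {φY : ∀ T : Over S, PicF.Cl (PicF.XT pY T) → (T ⟶ PY)} {φX : ∀ T : Over S, PicF.Cl (PicF.XT pX T) → (T ⟶ PX)}
    (hY : PicRel.IsRelPic pY PY φY) (hX : PicRel.IsRelPic pX PX φX) :
    ∃ m : PY ⟶ PX, ∀ (T : Over S) (c : Pic (PicF.XT pY T)), cm φX (rs hi T c) = cm φY c ≫ m := by
  obtain ⟨𝒰, c, hc⟩ := exists_cm hY (𝟙 PY)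
  obtain ⟨m, hm⟩ := glue_hom_ecov 𝒰 (fun a => cm φX (rs hi _ (c a))) (by
    intro a b W x y hxy
    rw [← cm_pu hX, ← cm_pu hX, cm_eq_iff hX, ← rs_pu, ← rs_pu]
    apply locEq_rs hi
    rw [← cm_eq_iff hY, cm_pu hY, cm_pu hY, hc, hc, Category.comp_id, Category.comp_id, hxy])
  refine ⟨m, fun T c' => ?_⟩
  obtain ⟨𝒱, h𝒱⟩ := exists_pull 𝒰 (cm φY c')
  apply hom_ext_ecov 𝒱
  intro b
  obtain ⟨a, s, hs⟩ := h𝒱 b
  rw [reassoc_of% hs, hm, ← cm_pu hX, ← cm_pu hX, cm_eq_iff hX, ← rs_pu, ← rs_pu]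
  apply locEq_rs hi
  rw [← cm_eq_iff hY, cm_pu hY, cm_pu hY, hc, Category.comp_id, hs]

section Pt

variable {k : Type u} [Field k] {Y : Scheme.{u}} (fY : Y ⟶ Spec (CommRingCat.of k))

/-- The unit of `Over (Spec k)` as the identity. -/
noncomputable abbrev pt1 (k : Type u) [Field k] : Over (Spec (CommRingCat.of k)) := Over.mk (𝟙 _)

/-- Classes on `Y` as classes on `Y ×_k k`. -/
noncomputable abbrev up : Pic Y →* Pic (PicF.XT fY (pt1 k)) := pull (pullback.fst fY (𝟙 _))

theorem up_bijective : Function.Bijective (up fY) := by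
  have h : IsIso (pullback.fst fY (𝟙 (Spec (CommRingCat.of k)))) := inferInstance
  constructor
  · intro a b hab
    have h1 := congrArg (pull (inv (pullback.fst fY (𝟙 (Spec (CommRingCat.of k)))))) hab
    rwa [← pull_comp, ← pull_comp, IsIso.inv_hom_id, pull_id, pull_id] at h1
  · intro a
    refine ⟨pull (inv (pullback.fst fY (𝟙 (Spec (CommRingCat.of k))))) a, ?_⟩
    rw [← pull_comp, IsIso.hom_inv_id, pull_id]

theorem rs_up {X Y : Scheme.{u}} {fX : X ⟶ Spec (CommRingCat.of k)} {fY : Y ⟶ Spec (CommRingCat.of k)} {i : X ⟶ Y}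
    (hi : i ≫ fY = fX) (c : Pic Y) : rs hi (pt1 k) (up fY c) = up fX (pull i c) := by
  have h := bc_fst hi (pt1 k)
  change pull (bc hi (pt1 k)) (pull (pullback.fst fY (𝟙 _)) c) = pull (pullback.fst fX (𝟙 _)) (pull i c)
  rw [← pull_comp, ← pull_comp]
  exact congrArg (fun a => pull a c) h

end Pt

variable {k : Type u} [Field k] [IsAlgClosed k]

theorem finite_alg0_ker {X Y : Scheme.{u}} [Y.Over (Spec (CommRingCat.of k))] [IsProper (Y ↘ Spec (CommRingCat.of k))]
    [X.Over (Spec (CommRingCat.of k))] [IsProper (X ↘ Spec (CommRingCat.of k))]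
    (i : X ⟶ Y) (hi : i ≫ (Y ↘ Spec (CommRingCat.of k)) = (X ↘ Spec (CommRingCat.of k)))
    (hnorm : ∀ (k' : Type u) [Field k'] [Algebra k k'], Module.Finite k k' →
      _root_.Pi1.IsNormalScheme (pullback (Y ↘ Spec (CommRingCat.of k)) (Spec.map (CommRingCat.ofHom (algebraMap k k')))))
    {n : ℕ} (hn : (n : k) ≠ 0) (hn1 : 1 < n) (htors : ∀ c : Pic Y, c ^ n = 1 → pull i c = 1 → c = 1) :
    Set.Finite {c : Pic Y | c ∈ alg0 k Y ∧ pull i c = 1} := by
  obtain ⟨PY, ⟨φY, hY⟩, hYsep, hYlft⟩ := Groth.Agent.S4289.result k Y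
  obtain ⟨PX, ⟨φX, hX⟩, hXsep, hXlft⟩ := Groth.Agent.S4289.result k X
  obtain ⟨gY, hYm, hY1, hYc⟩ := exists_grpObj hY
  obtain ⟨gX, hXm, hX1, hXc⟩ := exists_grpObj hX
  obtain ⟨m, hm⟩ := exists_m hi hY hX
  have hmon : IsMonHom m := isMonHom_of_natural hY hYm hXm (fun T => rs hi T) m hm
  obtain ⟨gN, hN⟩ := Sga3B.KerGrp.exists_grpObj m
  let N := Sga3B.KerGrp.kerObj m
  let jN : N ⟶ PY := Sga3B.KerGrp.kerι m
  have hsub : Subsingleton ↥(𝟙_ (Over (Spec (CommRingCat.of k)))).left :=
    inferInstanceAs (Subsingleton (PrimeSpectrum k))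
  have hηX : IsClosedImmersion η[PX].left := isClosedImmersion_of_comp_eq_id _ _ (Over.w η[PX])
  have hjcl : IsClosedImmersion jN.left := inferInstanceAs (IsClosedImmersion (pullback.fst m.left η[PX].left))
  have hNlft : LocallyOfFiniteType N.hom := by
    rw [← Over.w jN]; infer_instance
  -- the classifying maps as homomorphisms
  let hom : Pic Y →* (pt1 k ⟶ PY) :=
    { toFun := fun c => cm φY (up (Y ↘ Spec (CommRingCat.of k)) c)
      map_one' := by rw [map_one]; exact hY1 _
      map_mul' := fun a b => by rw [map_mul]; exact hYm _ _ _ }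
  have hhom : ∀ c, hom c = cm φY (up (Y ↘ Spec (CommRingCat.of k)) c) := fun _ => rfl
  have hinj : Function.Injective hom := by
    intro a b hab
    apply (up_bijective (Y ↘ Spec (CommRingCat.of k))).1
    exact Groth.Agent.Pic13.H703.QC.eq_of_locEq (𝟙 _) _ ((cm_eq_iff hY).1 hab)
  have hsur : Function.Surjective hom := by
    intro g
    obtain ⟨c', hc'⟩ := Groth.Agent.Pic13.H703.QC.exists_class (𝟙 _) (Y ↘ Spec (CommRingCat.of k)) hY g
    obtain ⟨c, rfl⟩ := (up_bijective (Y ↘ Spec (CommRingCat.of k))).2 c'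
    exact ⟨c, hc'⟩
  have hker : ∀ c, hom c ≫ m = 1 ↔ pull i c = 1 := by
    intro c
    rw [hhom, ← hm, rs_up, ← hX1, cm_eq_iff hX]
    constructor
    · intro h
      have h1 := Groth.Agent.Pic13.H703.QC.eq_of_locEq (𝟙 _) _ h
      apply (up_bijective (X ↘ Spec (CommRingCat.of k))).1
      rw [h1, map_one]
    · intro h
      rw [h, map_one]
      exact LocEq.refl _
  -- no torsion
  have htN : ∀ x : 𝟙_ (Over (Spec (CommRingCat.of k))) ⟶ N, x ^ n = 1 → x = 1 := by
    intro x hx
    obtain ⟨c, hc⟩ := hsur (x ≫ jN)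
    have hjm : Mono jN := inferInstanceAs (Mono (Sga3B.KerGrp.kerι m))
    have h1 : c ^ n = 1 := by
      apply hinj
      rw [map_pow, map_one, hc, ← MonObj.pow_comp, hx, MonObj.one_comp]
    have h2 : pull i c = 1 := by
      rw [← hker, hc, Category.assoc, Sga3B.KerGrp.kerι_comp, MonObj.comp_one]
    rw [← cancel_mono jN, MonObj.one_comp, ← hc, htors c h1 h2, map_one]
  -- the identity component
  obtain ⟨V, hV, hVp⟩ := Groth.Agent.S5681.result k Y (Y ↘ Spec (CommRingCat.of k)) hnorm PY φY hY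
    (IsLocalRing.closedPoint k)
  have hV' : (V : Set PY.left) = connectedComponent (pt η[PY]) := by
    rw [hV]
    have h1 : φY (pt1 k) (PicF.cl (Coh.structureModule _)) = η[PY] := (hY1 (pt1 k)).trans (one_eq PY)
    have h2 := congrArg (fun a => connectedComponent (a.left.base (IsLocalRing.closedPoint k))) h1
    exact h2
  have hjη : jN.left (pt η[N]) = pt η[PY] := by
    rw [← pt_comp, IsMonHom.one_hom]
  have hprop : ∀ (U : Over (Spec (CommRingCat.of k))) (u : U ⟶ N), IsClosedImmersion u.left →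
      Set.range u.left = connectedComponent (pt η[N]) → IsProper U.hom := by
    intro U u hu hr
    have h1 : Set.range (u ≫ jN).left ⊆ V := by
      rw [hV', Over.comp_left, Scheme.Hom.comp_base, TopCat.coe_comp, Set.range_comp]
      refine IsPreconnected.subset_connectedComponent ?_ ⟨pt η[N], ?_, hjη⟩
      · change _root_.IsPreconnected (jN.left '' Set.range u.left)
        rw [hr]
        exact isPreconnected_connectedComponent.image _ jN.left.continuous.continuousOn
      · change _ ∈ Set.range u.left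
        rw [hr]; exact mem_connectedComponent
    let l : U.left ⟶ V := IsOpenImmersion.lift V.ι (u ≫ jN).left (by rw [Scheme.Opens.range_ι]; exact h1)
    have hl : l ≫ V.ι = (u ≫ jN).left := IsOpenImmersion.lift_fac _ _ _
    have hlcl : IsClosedImmersion l := by
      have : IsClosedImmersion (l ≫ V.ι) := by
        rw [hl, Over.comp_left]; infer_instance
      exact IsClosedImmersion.of_comp l V.ι
    have h2 : U.hom = l ≫ V.ι ≫ PY.hom := by
      rw [← Category.assoc, hl, Over.w]
    rw [h2]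
    infer_instance
  -- the noetherian part
  have hVn : NoetherianSpace (V : Set PY.left) := by
    have h1 : IsLocallyNoetherian V := LocallyOfFiniteType.isLocallyNoetherian (V.ι ≫ PY.hom)
    have h2 : CompactSpace V := QuasiCompact.compactSpace_of_compactSpace (V.ι ≫ PY.hom)
    have h3 : IsNoetherian V := {}
    have h4 := NoetherianSpace.range V.ι V.ι.continuous
    rwa [Scheme.Opens.range_ι] at h4
  let W : Set N.left := jN.left ⁻¹' V
  have hWn : NoetherianSpace W := by
    have hi : Topology.IsInducing (fun w : W => (⟨jN.left w.1, w.2⟩ : (V : Set PY.left))) :=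
      (Topology.IsInducing.subtypeVal.of_comp_iff).1
        (jN.left.isClosedEmbedding.isInducing.comp Topology.IsInducing.subtypeVal)
    exact hi.noetherianSpace
  have hfin := GrpFin.finite_points N hn hn1 htN hprop W
  refine Set.Finite.subset (Set.Finite.preimage hinj.injOn (hfin.image fun x => x ≫ jN)) ?_
  rintro c ⟨hc1, hc2⟩
  obtain ⟨x, hx⟩ := Sga3B.KerGrp.exists_lift m (hom c) ((hker c).2 hc2)
  refine ⟨x, ?_, hx⟩
  change jN.left (pt x) ∈ V
  rw [← pt_comp]
  change pt (x ≫ Sga3B.KerGrp.kerι m) ∈ V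
  rw [hx]
  obtain ⟨L, hL, rfl⟩ := exists_mk c
  have h3 := Groth.Agent.S11760.result k Y PY φY hY L hL ((isAlgEquivZero_iff_mem hL).2 hc1)
  rw [← hV] at h3
  exact h3

end K836.KerFin
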