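import Groth.Agent.Pic13.K836.Tors
import Groth.Agent.Pic13.K836.KerFin
import Groth.Agent.S4283

/-!
# Finiteness of the kernel of restriction to an ample divisor on classes τ-equivalent to zero
-/

set_option autoImplicit false
universe u

open CategoryTheory CategoryTheory.Limits AlgebraicGeometry TopologicalSpace Opposite

namespace K836.Asm

open Groth.Agent Groth.Agent.Fdesc.LocGen Groth.Agent.Grpsch.PicGrp Groth.Agent.Fga.RigGrp
  Groth.Agent.Pic13.H138.AlgEquiv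

theorem isNormalScheme_of_isOpenImmersion {X Y : Scheme.{u}} (f : X ⟶ Y) [IsOpenImmersion f]
    (hY : _root_.Pi1.IsNormalScheme Y) : _root_.Pi1.IsNormalScheme X := by
  intro x
  obtain ⟨h1, h2⟩ := hY (f x)
  let e : Y.presheaf.stalk (f x) ≃+* X.presheaf.stalk x :=
    (asIso (f.stalkMap x)).commRingCatIsoToRingEquiv
  exact ⟨e.symm.toMulEquiv.isDomain _, IsIntegrallyClosed.of_equiv e⟩

/-- Over an algebraically closed field a normal scheme is geometrically normal. -/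
theorem geomNormal {k : Type u} [Field k] [IsAlgClosed k] {Y : Scheme.{u}} (f : Y ⟶ Spec (CommRingCat.of k))
    (hY : _root_.Pi1.IsNormalScheme Y) (k' : Type u) [Field k'] [Algebra k k'] (h : Module.Finite k k') :
    _root_.Pi1.IsNormalScheme (pullback f (Spec.map (CommRingCat.ofHom (algebraMap k k')))) := by
  have hbij : Function.Bijective (algebraMap k k') := IsAlgClosed.algebraMap_bijective_of_isIntegral
  have hiso : IsIso (CommRingCat.ofHom (algebraMap k k')) := by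
    rw [ConcreteCategory.isIso_iff_bijective]
    exact hbij
  have : IsIso (Spec.map (CommRingCat.ofHom (algebraMap k k'))) := inferInstance
  exact isNormalScheme_of_isOpenImmersion (pullback.fst f (Spec.map (CommRingCat.ofHom (algebraMap k k')))) hY

/-- A subgroup covered by finitely many sets in which any two elements differ by an element of `A` is finite if its
intersection with `A` is. -/
theorem finite_of_cosets {G : Type*} [CommGroup G] (K A : Subgroup G) (hKA : ((K ⊓ A : Subgroup G) : Set G).Finite)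
    {q : ℕ} (P : Fin q → G → Prop) (h1 : ∀ c ∈ K, ∃ j, P j c)
    (h2 : ∀ j c c', c ∈ K → c' ∈ K → P j c → P j c' → c * c'⁻¹ ∈ A) : (K : Set G).Finite := by
  have h3 : (K : Set G) ⊆ ⋃ j, {c | c ∈ K ∧ P j c} := by
    intro c hc
    obtain ⟨j, hj⟩ := h1 c hc
    exact Set.mem_iUnion.2 ⟨j, hc, hj⟩
  refine Set.Finite.subset (Set.finite_iUnion fun j => ?_) h3
  by_cases hne : ∃ c₀, c₀ ∈ K ∧ P j c₀
  · obtain ⟨c₀, hc₀, hP₀⟩ := hne
    refine Set.Finite.subset (hKA.image fun a => a * c₀) ?_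
    rintro c ⟨hc, hP⟩
    refine ⟨c * c₀⁻¹, ⟨K.mul_mem hc (K.inv_mem hc₀), h2 j c c₀ hc hc₀ hP hP₀⟩, ?_⟩
    simp
  · refine Set.Finite.subset Set.finite_empty ?_
    rintro c hc
    exact (hne ⟨c, hc⟩).elim

/-- `[L] [N]⁻¹` is determined by `M` if `L ≅ M ⊗ N`. -/
theorem nonempty_iso_of_tensor {Y : Scheme.{u}} {L M N : Y.Modules} (hN : PicF.IsInvertible N)
    (e : L ≅ CohB1.tensorMod M N) : Nonempty (CohB1.tensorMod L (dual N) ≅ M) := by
  have h1 : IsIso (ev N) := isIso_ev hN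
  exact ⟨Ega2.Tens.mapTIso e (Iso.refl _) ≪≫ Ega2.Tens.assoc _ _ _ ≪≫
    Ega2.Tens.mapTIso (Iso.refl _) (asIso (ev N)) ≪≫ Ega2.Tens.runit _⟩

theorem mul_inv_eq {Y : Scheme.{u}} {L L' M N N' : Y.Modules} (hL : PicF.IsInvertible L) (hL' : PicF.IsInvertible L')
    (hN : PicF.IsInvertible N) (hN' : PicF.IsInvertible N')
    (e : L ≅ CohB1.tensorMod M N) (e' : L' ≅ CohB1.tensorMod M N') :
    mk L hL * (mk L' hL')⁻¹ = mk N hN * (mk N' hN')⁻¹ := by
  obtain ⟨a⟩ := nonempty_iso_of_tensor hN e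
  obtain ⟨b⟩ := nonempty_iso_of_tensor hN' e'
  have h1 : mk L hL * (mk N hN)⁻¹ = mk L' hL' * (mk N' hN')⁻¹ := by
    rw [inv_mk, inv_mk, mk_mul_mk, mk_mul_mk, mk_eq_iff]
    exact ⟨a ≪≫ b.symm⟩
  calc mk L hL * (mk L' hL')⁻¹ = (mk L hL * (mk N hN)⁻¹) * (mk N hN * (mk L' hL')⁻¹) := by group
    _ = (mk L' hL' * (mk N' hN')⁻¹) * (mk N hN * (mk L' hL')⁻¹) := by rw [h1]
    _ = mk N hN * (mk N' hN')⁻¹ := by
      rw [mul_comm (mk L' hL'), mul_mul_mul_comm, mul_inv_cancel, mul_one, mul_comm]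

variable {k : Type u} [Field k] [IsAlgClosed k] {Y : Scheme.{u}} [Y.Over (Spec (CommRingCat.of k))]
  [IsProper (Y ↘ Spec (CommRingCat.of k))] [IsIntegral Y]

theorem exists_n (k : Type u) [Field k] : ∃ n : ℕ, 1 < n ∧ (n : k) ≠ 0 := by
  by_cases h : ((2 : ℕ) : k) = 0
  · refine ⟨3, by norm_num, ?_⟩
    have : ((3 : ℕ) : k) = ((2 : ℕ) : k) + 1 := by norm_num
    rw [this, h, zero_add]
    exact one_ne_zero
  · exact ⟨2, by norm_num, h⟩

/-- Finiteness on classes τ-equivalent to zero. -/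
theorem finite_tau (hnor : _root_.Pi1.IsNormalScheme Y) (hdim : 2 ≤ topologicalKrullDim Y)
    {H : Y.Modules} (hH : CohB1.IsAmple H) (φ : Coh.structureModule Y ⟶ H) (hφ : φ ≠ 0) :
    Set.Finite {c : Pic Y | c ∈ tau0 k Y ∧ pull (PicF2.zeroScheme H φ).subschemeι c = 1} := by
  obtain ⟨n, hn1, hn⟩ := exists_n k
  let i := (PicF2.zeroScheme H φ).subschemeι
  let _ : (PicF2.zeroScheme H φ).subscheme.Over (Spec (CommRingCat.of k)) := ⟨i ≫ (Y ↘ Spec (CommRingCat.of k))⟩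
  have _ : IsProper ((PicF2.zeroScheme H φ).subscheme ↘ (Spec (CommRingCat.of k))) :=
    inferInstanceAs (IsProper (i ≫ (Y ↘ Spec (CommRingCat.of k))))
  have h0 := KerFin.finite_alg0_ker i rfl (fun k' _ _ h => geomNormal _ hnor k' h) hn hn1
    (fun c h1 h2 => Tors.eq_one hnor hdim hH φ hφ hn h2 h1)
  obtain ⟨q, M, hM⟩ := Groth.Agent.S4283.result k Y
  let K : Subgroup (Pic Y) := tau0 k Y ⊓ (pull i).ker
  have hfin := finite_of_cosets K (alg0 k Y) (h0.subset (by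
    rintro c ⟨⟨h1, h2⟩, h3⟩
    exact ⟨h3, h2⟩))
    (fun j c => ∃ (L N : Y.Modules) (hL : PicF.IsInvertible L) (hN : PicF.IsInvertible N), c = mk L hL ∧
      mk N hN ∈ alg0 k Y ∧ Nonempty (L ≅ CohB1.tensorMod (M j) N))
    (by
      rintro c ⟨hc, -⟩
      obtain ⟨L, hL, rfl⟩ := exists_mk c
      obtain ⟨j, N, hN, hN0, e⟩ := hM L hL ((isTauEquivZero_iff_mem hL).2 hc)
      exact ⟨j, L, N, hL, hN, rfl, (isAlgEquivZero_iff_mem hN).1 hN0, e⟩)
    (by
      rintro j _ _ - - ⟨L, N, hL, hN, rfl, hN0, ⟨e⟩⟩ ⟨L', N', hL', hN', rfl, hN0', ⟨e'⟩⟩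
      rw [mul_inv_eq hL hL' hN hN' e e']
      exact mul_mem hN0 (inv_mem hN0'))
  refine hfin.subset ?_
  rintro c ⟨h1, h2⟩
  exact ⟨h1, h2⟩

/-- The zero scheme of the zero section. -/
theorem eq_one_of_zero {H : Y.Modules} (hH : PicF.IsInvertible H) {c : Pic Y}
    (hc : pull (PicF2.zeroScheme H (0 : Coh.structureModule Y ⟶ H)).subschemeι c = 1) : c = 1 := by
  have h0 : PicF2.zeroScheme H (0 : Coh.structureModule Y ⟶ H) = ⊥ := by
    rw [← Scheme.IdealSheafData.support_eq_top_iff]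
    ext x
    have h1 := Pi1C.ZeroScheme.mem_support_iff (0 : Coh.structureModule Y ⟶ H) hH (x := x)
    rw [Ega2.FiniteSet.genLocus_zero] at h1
    exact ⟨fun _ => trivial, fun _ => h1.2 id⟩
  rw [h0] at hc
  have hiso : IsIso (⊥ : Y.IdealSheafData).subschemeι := inferInstance
  have h1 := congrArg (pull (inv (⊥ : Y.IdealSheafData).subschemeι)) hc
  rwa [← pull_comp, IsIso.inv_hom_id, pull_id, map_one] at h1

end K836.Asm
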