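import Groth.Agent.S1567
import Groth.Agent.VarietyB.FibreGeneric
import Groth.Agent.VarietyB.DimSch

/-!
# Dimension of the components of a locally principal closed subset of a variety

`le_dim_component`: `Y` integral, locally of finite type over a field, of dimension at least `n + 1`, `D` locally
principal: every irreducible component of the support of `D` has dimension at least `n`.
-/

set_option autoImplicit false
universe u

open CategoryTheory CategoryTheory.Limits AlgebraicGeometry TopologicalSpace

namespace K836.CompDim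

open Groth.Agent Groth.Agent.VarietyB

variable (k : Type u) [Field k] {Y : Scheme.{u}} [Y.Over (Spec (CommRingCat.of k))]
  [LocallyOfFiniteType (Y ↘ (Spec (CommRingCat.of k)))] [IsIntegral Y]

include k

/-- The dimension at a generic point of the support. -/
theorem le_trd {D : Y.IdealSheafData} (hD : Curv2.IsLocPrincipal D) {n : ℕ}
    (hdim : ((n + 1 : ℕ) : WithBot ℕ∞) ≤ topologicalKrullDim Y) (w : Y) (hw : w ∈ (D.support : Set Y))
    (hgen : ∀ y ∈ (D.support : Set Y), y ⤳ w → y = w) :
    (n : WithBot ℕ∞) ≤ topologicalKrullDim (closure ({w} : Set Y)) := by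
  have hn : IsLocallyNoetherian Y := LocallyOfFiniteType.isLocallyNoetherian (Y ↘ (Spec (CommRingCat.of k)))
  have h1 := Groth.Agent.S1567.result Y D hD w hw hgen
  have h2 := DimSch.localDim_eq k w
  rw [DimSch.localDim_eq_of_irreducible k w, ← DimSch.topologicalKrullDim_eq_trd k] at h2
  rw [h2] at hdim
  rw [FibreGeneric.dim_closure_eq k Y w _ (DimSch.trdeg_eq_trd k w)]
  have h3 : ((n + 1 : ℕ) : WithBot ℕ∞) ≤ 1 + (DimSch.trd k Y w : WithBot ℕ∞) :=
    hdim.trans (add_le_add_left h1 _)
  have h4 : n + 1 ≤ 1 + DimSch.trd k Y w := by exact_mod_cast h3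
  have h5 : n ≤ DimSch.trd k Y w := by omega
  exact_mod_cast h5

/-- The dimension of the irreducible components. -/
theorem le_dim_component {D : Y.IdealSheafData} (hD : Curv2.IsLocPrincipal D) {n : ℕ}
    (hdim : ((n + 1 : ℕ) : WithBot ℕ∞) ≤ topologicalKrullDim Y) (S : Set Y) (hS : S = D.support)
    (W : Set S) (hW : W ∈ irreducibleComponents S) : (n : WithBot ℕ∞) ≤ topologicalKrullDim W := by
  subst hS
  have hWirr : IsIrreducible W := hW.1
  have hWcl : IsClosed W := isClosed_of_mem_irreducibleComponents W hW
  have hSc : IsClosed (D.support : Set Y) := D.support.isClosed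
  let W' : Set Y := Subtype.val '' W
  have hW'irr : IsIrreducible W' := hWirr.image _ continuous_subtype_val.continuousOn
  have hW'cl : IsClosed W' := hSc.isClosedEmbedding_subtypeVal.isClosedMap _ hWcl
  obtain ⟨w, hw⟩ := QuasiSober.sober hW'irr hW'cl
  have hwW : w ∈ W' := hw.mem
  obtain ⟨⟨w0, hw0⟩, hwW0, rfl⟩ := hwW
  have hgen : ∀ y ∈ (D.support : Set Y), y ⤳ w0 → y = w0 := by
    intro y hy hyw
    have h1 : W ⊆ closure {(⟨y, hy⟩ : (D.support : Set Y))} := by
      intro z hz
      rw [← specializes_iff_mem_closure, ← Topology.IsInducing.subtypeVal.specializes_iff]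
      have h2 : w0 ⤳ z.1 := hw.specializes ⟨z, hz, rfl⟩
      exact hyw.trans h2
    have h2 := hW.2 (isIrreducible_singleton.closure) h1
    have h3 : (⟨y, hy⟩ : (D.support : Set Y)) ∈ W := h2 (subset_closure rfl)
    have h4 : w0 ⤳ y := hw.specializes ⟨_, h3, rfl⟩
    exact (hyw.antisymm h4).eq
  have h5 := le_trd k hD hdim w0 hw0 hgen
  rw [hw.def] at h5
  have h6 : topologicalKrullDim W = topologicalKrullDim W' := by
    have he : Topology.IsEmbedding (fun y : ↥(D.support : Set Y) => (y : Y)) := Topology.IsEmbedding.subtypeVal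
    exact (he.homeomorphImage W).isHomeomorph.topologicalKrullDim_eq
  rw [h6]
  exact h5

end K836.CompDim
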