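import Groth.Agent.AbVar.K510.TorsGen
import Groth.Agent.Sga3B.RedIdComp

/-!
# Groups without rational torsion points and proper connected subgroups

* `subsingleton_of_torsion`: an abelian variety over an algebraically closed field without rational `n`-torsion points,
  `n > 1` invertible, is a point.
* `finite_points`: a group scheme locally of finite type over an algebraically closed field whose connected closed
  subschemes through the identity are proper and which has no rational `n`-torsion: a noetherian subspace has only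
  finitely many rational points.
-/

set_option autoImplicit false
universe u

open CategoryTheory MonoidalCategory CartesianMonoidalCategory MonObj GrpObj AlgebraicGeometry Limits TopologicalSpace

namespace K836.GrpFin

open Groth.Agent Groth.Agent.Books.AlgPts Groth.Agent.Books.AlgPtsGrp K510.TorsGen

variable {K : Type u} [Field K] [IsAlgClosed K]

/-- An abelian variety without rational `n`-torsion is a point. -/
theorem subsingleton_of_torsion (U : Over (Spec (CommRingCat.of K))) [GrpObj U] [Smooth U.hom] [ConnectedSpace U.left]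
    [IsProper U.hom] {n : ℕ} (hn : (n : K) ≠ 0) (hn1 : 1 < n)
    (h : ∀ x : 𝟙_ (Over (Spec (CommRingCat.of K))) ⟶ U, x ^ n = 1 → x = 1) : Subsingleton U.left := by
  have hgi : GeometricallyIntegral U.hom := geometricallyIntegral_of_smooth_connected U
  have hirr : IrreducibleSpace U.left := GeometricallyIrreducible.irreducibleSpace_of_subsingleton U.hom
  obtain ⟨g, hg⟩ := exists_dim U.hom
  have h1 := Etcore.AbTors.card_torsion U g hg n hn
  have h2 : Nat.card {x : Over.mk (𝟙 (Spec (CommRingCat.of K))) ⟶ U // x ^ n = 1} = 1 := by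
    rw [Nat.card_eq_one_iff_unique]
    exact ⟨⟨fun x y => Subtype.ext ((h x.1 x.2).trans (h y.1 y.2).symm)⟩, ⟨⟨1, one_pow n⟩⟩⟩
  rw [h2] at h1
  have hg0 : g = 0 := by
    by_contra hne
    have h3 : 1 < n ^ (2 * g) := Nat.one_lt_pow (by omega) hn1
    omega
  subst hg0
  have h3 : η[U].left ≫ U.hom = 𝟙 _ := Over.w η[U]
  have hsub : Subsingleton ↥(𝟙_ (Over (Spec (CommRingCat.of K)))).left :=
    inferInstanceAs (Subsingleton (PrimeSpectrum K))
  have hne : Nonempty ↥(𝟙_ (Over (Spec (CommRingCat.of K)))).left :=
    inferInstanceAs (Nonempty (PrimeSpectrum K))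
  have hc : IsClosedImmersion η[U].left := isClosedImmersion_of_comp_eq_id _ _ h3
  have hdim : topologicalKrullDim ↥(𝟙_ (Over (Spec (CommRingCat.of K)))).left = (0 : ℕ) := by
    exact (PrimeSpectrum.topologicalKrullDim_eq_ringKrullDim K).trans (ringKrullDim_eq_zero_of_field K)
  have h4 := range_eq_univ η[U].left 0 hdim hg
  refine ⟨fun x y => ?_⟩
  obtain ⟨a, rfl⟩ : x ∈ Set.range η[U].left := by rw [h4]; trivial
  obtain ⟨b, rfl⟩ : y ∈ Set.range η[U].left := by rw [h4]; trivial
  rw [Subsingleton.elim a b]

/-- A Noetherian space has finitely many connected components. -/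
theorem finite_connectedComponents (A : Type*) [TopologicalSpace A] [NoetherianSpace A] :
    Finite (ConnectedComponents A) := by
  have hf : (irreducibleComponents A).Finite := NoetherianSpace.finite_irreducibleComponents
  have := hf.to_subtype
  have hne : ∀ Z : irreducibleComponents A, (Z : Set A).Nonempty := fun Z => Z.2.1.nonempty
  refine Finite.of_surjective (fun Z : irreducibleComponents A => (ConnectedComponents.mk (hne Z).some)) ?_
  intro c
  obtain ⟨x, rfl⟩ := ConnectedComponents.surjective_coe c
  let Z : irreducibleComponents A :=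
    ⟨irreducibleComponent x, irreducibleComponent_mem_irreducibleComponents x⟩
  refine ⟨Z, ?_⟩
  have h1 : (hne Z).some ∈ irreducibleComponent x := (hne Z).some_mem
  exact ConnectedComponents.coe_eq_coe'.mpr (irreducibleComponent_subset_connectedComponent h1)

/-- The connected component of the identity is a point. -/
theorem connectedComponent_eq (N : Over (Spec (CommRingCat.of K))) [GrpObj N] [LocallyOfFiniteType N.hom]
    {n : ℕ} (hn : (n : K) ≠ 0) (hn1 : 1 < n) (h : ∀ x : 𝟙_ (Over (Spec (CommRingCat.of K))) ⟶ N, x ^ n = 1 → x = 1)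
    (hprop : ∀ (U : Over (Spec (CommRingCat.of K))) (u : U ⟶ N), IsClosedImmersion u.left →
      Set.range u.left = connectedComponent (pt η[N]) → IsProper U.hom) :
    connectedComponent (pt η[N]) ⊆ {pt η[N]} := by
  obtain ⟨U, gU, u, hu, hucl, hsm, hconn, hr⟩ := Sga3B.RedIdComp.exists_redIdComp N
  have hUp := hprop U u hucl hr
  have hm : Mono u := mono_of_isClosedImmersion u
  have hsub := subsingleton_of_torsion U hn hn1 (fun x hx => by
    rw [← cancel_mono u, MonObj.one_comp]
    apply h
    rw [← MonObj.pow_comp, hx, MonObj.one_comp])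
  rw [← hr]
  rintro _ ⟨z, rfl⟩
  have h1 : pt η[N] ∈ Set.range u.left := by
    rw [hr]; exact mem_connectedComponent
  obtain ⟨w, hw⟩ := h1
  rw [Set.mem_singleton_iff, ← hw, Subsingleton.elim z w]

theorem finite_points (N : Over (Spec (CommRingCat.of K))) [GrpObj N] [LocallyOfFiniteType N.hom]
    {n : ℕ} (hn : (n : K) ≠ 0) (hn1 : 1 < n) (h : ∀ x : 𝟙_ (Over (Spec (CommRingCat.of K))) ⟶ N, x ^ n = 1 → x = 1)
    (hprop : ∀ (U : Over (Spec (CommRingCat.of K))) (u : U ⟶ N), IsClosedImmersion u.left →
      Set.range u.left = connectedComponent (pt η[N]) → IsProper U.hom)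
    (W : Set N.left) [NoetherianSpace W] :
    Set.Finite {x : 𝟙_ (Over (Spec (CommRingCat.of K))) ⟶ N | pt x ∈ W} := by
  have hcc := connectedComponent_eq N hn hn1 h hprop
  have hfin : Finite (ConnectedComponents W) := finite_connectedComponents W
  let F : {x : 𝟙_ (Over (Spec (CommRingCat.of K))) ⟶ N | pt x ∈ W} → ConnectedComponents W :=
    fun x => ConnectedComponents.mk ⟨pt x.1, x.2⟩
  have hF : Function.Injective F := by
    rintro ⟨x, hx⟩ ⟨y, hy⟩ hxy
    have h1 : connectedComponent (⟨pt x, hx⟩ : W) = connectedComponent ⟨pt y, hy⟩ := ConnectedComponents.coe_eq_coe.mp hxy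
    let E : Set N.left := Subtype.val '' connectedComponent (⟨pt y, hy⟩ : W)
    have hE : _root_.IsPreconnected E := isPreconnected_connectedComponent.image _ continuous_subtype_val.continuousOn
    have hEx : pt x ∈ E := ⟨⟨pt x, hx⟩, by rw [← h1]; exact mem_connectedComponent, rfl⟩
    have hEy : pt y ∈ E := ⟨⟨pt y, hy⟩, mem_connectedComponent, rfl⟩
    have hE' : _root_.IsPreconnected ((tr y⁻¹).left '' E) := hE.image _ (tr y⁻¹).left.continuous.continuousOn
    have hc : ∀ z : 𝟙_ (Over (Spec (CommRingCat.of K))) ⟶ N, (tr y⁻¹).left (pt z) = pt (y⁻¹ * z) := by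
      intro z
      rw [← pt_comp, comp_tr, toUnit_unique (toUnit (𝟙_ (Over (Spec (CommRingCat.of K))))) (𝟙 _), Category.id_comp]
    have hy1 : pt η[N] ∈ (tr y⁻¹).left '' E := ⟨pt y, hEy, by rw [hc, inv_mul_cancel, one_eq]⟩
    have hx1 : pt (y⁻¹ * x) ∈ (tr y⁻¹).left '' E := ⟨pt x, hEx, hc x⟩
    have h2 := hcc (hE'.subset_connectedComponent hy1 hx1)
    have h3 : y⁻¹ * x = 1 := by
      rw [one_eq]
      exact pt_injective h2
    apply Subtype.ext
    exact (inv_mul_eq_one.mp h3).symm
  have := Finite.of_injective F hF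
  exact Set.toFinite _

end K836.GrpFin
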