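import Groth.Agent.Pic13.H965.Coc
import Groth.Agent.Pic13.H965.GlobSurj
import Mathlib.Dynamics.Newton
import Mathlib.RingTheory.Nilpotent.Lemmas

/-!
# Torsion classes along nilpotent thickenings

* `existsUnique_root`: `n`-th roots of elements `1 + nilpotent` for `n` invertible.
* `eq_one`: `i : Z ⟶ Y` a surjective closed immersion, `Z` reduced and proper over an algebraically closed field `k`,
  `n` invertible in `k`: a class `c : Pic Y` with `i^* c = 1` and `c ^ n = 1` is `1`.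
-/

set_option autoImplicit false
universe u

open CategoryTheory Limits AlgebraicGeometry TopologicalSpace Opposite
open Groth.Agent.Fdesc.LocGen Groth.Agent.Grpsch.PicGrp
open Groth.Agent.Pic13.H965 Groth.Agent.Pic13.H965.Coc Groth.Agent.Pic13.H965.GlobSurj

namespace K836.NilRoot

section Alg

variable {R : Type*} [CommRing R] {n : ℕ}

theorem existsUnique_root (hn : IsUnit (n : R)) {x : R} (hx : IsNilpotent (x - 1)) :
    ∃! y : R, IsNilpotent (y - 1) ∧ y ^ n = x := by
  have h := Polynomial.existsUnique_nilpotent_sub_and_aeval_eq_zero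
    (P := (Polynomial.X ^ n - Polynomial.C x : Polynomial R)) (x := (1 : R))
    (by
      simp only [map_sub, map_pow, Polynomial.aeval_X, one_pow, Polynomial.aeval_C, Algebra.algebraMap_self,
        RingHom.id_apply]
      rw [← isNilpotent_neg_iff, neg_sub]
      exact hx)
    (by
      rw [map_sub, Polynomial.derivative_X_pow, Polynomial.derivative_C, sub_zero]
      simpa using hn)
  have hiff : ∀ y : R, (IsNilpotent (1 - y) ∧ Polynomial.aeval y (Polynomial.X ^ n - Polynomial.C x) = 0) ↔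
      (IsNilpotent (y - 1) ∧ y ^ n = x) := by
    intro y
    rw [← isNilpotent_neg_iff, neg_sub]
    simp [sub_eq_zero]
  simpa only [hiff] using h

lemma isNilpotent_pow_sub_one {x : R} (hx : IsNilpotent (x - 1)) (m : ℕ) : IsNilpotent (x ^ m - 1) := by
  have h : x - 1 ∣ x ^ m - 1 := by simpa using sub_dvd_pow_sub_pow x 1 m
  obtain ⟨c, hc⟩ := h
  rw [hc]
  exact (Commute.all _ _).isNilpotent_mul_right hx

lemma eq_of_pow_eq (hn : IsUnit (n : R)) {x y : R} (hx : IsNilpotent (x - 1)) (hy : IsNilpotent (y - 1))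
    (h : x ^ n = y ^ n) : x = y :=
  (existsUnique_root hn (isNilpotent_pow_sub_one hx n)).unique ⟨hx, rfl⟩ ⟨hy, h.symm⟩

lemma isNilpotent_mul_sub_one {x y : R} (hx : IsNilpotent (x - 1)) (hy : IsNilpotent (y - 1)) :
    IsNilpotent (x * y - 1) := by
  have h : x * y - 1 = (x - 1) * y + (y - 1) := by ring
  rw [h]
  exact (Commute.all _ _).isNilpotent_add ((Commute.all _ _).isNilpotent_mul_right hx) hy

lemma isUnit_of_nil {x : R} (hx : IsNilpotent (x - 1)) : IsUnit x := by
  have := hx.isUnit_add_one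
  rwa [sub_add_cancel] at this

end Alg

section Geo

variable {Y Z : Scheme.{u}} (i : Z ⟶ Y) [Surjective i]

lemma isNilpotent_of_app_eq_zero {U : Y.Opens} (hU : IsCompact (U : Set Y)) {s : Γ(Y, U)} (hs : i.app U s = 0) :
    IsNilpotent s := by
  rw [AlgebraicGeometry.Scheme.isNilpotent_iff_basicOpen_eq_bot_of_isCompact hU]
  have h1 : i ⁻¹ᵁ Y.basicOpen s = ⊥ := by
    rw [Scheme.preimage_basicOpen, hs, Scheme.basicOpen_zero]
  rw [eq_bot_iff]
  intro y hy
  obtain ⟨z, rfl⟩ := i.surjective y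
  have : z ∈ i ⁻¹ᵁ Y.basicOpen s := hy
  rw [h1] at this
  exact this.elim

/-- Roots of global functions on a reduced proper scheme over an algebraically closed field. -/
theorem exists_root_global {k : Type u} [Field k] [IsAlgClosed k] (q : Z ⟶ Spec (CommRingCat.of k)) [UniversallyClosed q]
    [IsReduced Z] {n : ℕ} (hn : 0 < n) (w : Γ(Z, ⊤)) : ∃ z : Γ(Z, ⊤), z ^ n = w := by
  obtain ⟨S, C, hC, hdisj, hf⟩ := exists_locConst q w
  have hr : ∀ a : k, ∃ b : k, b ^ n = a := fun a => IsAlgClosed.exists_pow_nat_eq a hn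
  choose r hr using hr
  obtain ⟨t, ht⟩ := ores_glue (X := Z) (V := ⊤) (fun a : S => C a.1) (fun a => le_top) hC.ge
    (fun a => ores le_top (κ q (r a.1))) (fun a b => by
      by_cases hab : a = b
      · subst hab
        exact (ores_ores _ _ _).trans (ores_ores _ _ _).symm
      · have h1 : C a.1 ⊓ C b.1 = ⊥ := hdisj _ _ (fun h => hab (Subtype.ext h))
        have : Subsingleton Γ(Z, C a.1 ⊓ C b.1) := by
          rw [h1]
          exact CommRingCat.subsingleton_of_isTerminal Z.sheaf.isTerminalOfEmpty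
        exact Subsingleton.elim _ _)
  refine ⟨t, ores_ext (X := Z) (V := ⊤) (fun a : S => C a.1) (fun a => le_top) hC.ge fun a => ?_⟩
  rw [map_pow, ht a, hf, ← map_pow, ← map_pow, hr]

end Geo

lemma Coc.mul {Y : Scheme.{u}} {ι : Type*} {U : ι → Y.Opens} {c d : Pic Y} {v w : ∀ a b, Γ(Y, U a ⊓ U b)}
    (h : Coc U c v) (h' : Coc U d w) : Coc U (c * d) (fun a b => v a b * w a b) := by
  obtain ⟨L, hL, l, rfl, hl, hv⟩ := h
  obtain ⟨M, hM, m, rfl, hm, hw⟩ := h'
  refine ⟨_, isInvertible_tensorMod hL hM, fun a => tmul (l a) (m a), rfl, fun a => (hl a).tmul (hm a), fun a b => ?_⟩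
  rw [res_tmul, res_tmul, hv, hw, smul_tmul, tmul_smul, smul_smul]

lemma Coc.pow {Y : Scheme.{u}} {ι : Type*} {U : ι → Y.Opens} {c : Pic Y} {v : ∀ a b, Γ(Y, U a ⊓ U b)}
    (h : Coc U c v) (n : ℕ) : Coc U (c ^ n) (fun a b => v a b ^ n) := by
  induction n with
  | zero =>
    rw [_root_.pow_zero]
    simpa only [_root_.pow_zero] using (coc_one (U := U))
  | succ n ih =>
    rw [_root_.pow_succ]
    simpa only [_root_.pow_succ] using Coc.mul ih h

/-- Torsion classes of order prime to the characteristic which are trivial on a reduced closed subscheme with the same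
space are trivial. -/
theorem eq_one {k : Type u} [Field k] [IsAlgClosed k] {Y Z : Scheme.{u}} [QuasiSeparatedSpace Y]
    {p : Y ⟶ Spec (CommRingCat.of k)} {q : Z ⟶ Spec (CommRingCat.of k)} {i : Z ⟶ Y} (hq : i ≫ p = q)
    [UniversallyClosed q] [IsReduced Z] [IsClosedImmersion i] [Surjective i] {n : ℕ} (hn : (n : k) ≠ 0) {c : Pic Y}
    (hc : pull i c = 1) (hcn : c ^ n = 1) : c = 1 := by
  have hn0 : 0 < n := Nat.pos_of_ne_zero (by rintro rfl; simp at hn)
  let U : Y.affineOpens → Y.Opens := fun a => a.1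
  have hU : ∀ a, IsAffineOpen (U a) := fun a => a.2
  have hcov : ⨆ a, U a = ⊤ := by
    rw [eq_top_iff]
    intro y _
    obtain ⟨_, ⟨V, hV, rfl⟩, hyV, -⟩ := Y.isBasis_affineOpens.exists_subset_of_mem_open (Set.mem_univ y) isOpen_univ
    exact Opens.mem_iSup.2 ⟨⟨V, hV⟩, hyV⟩
  have hcompact : ∀ a b, IsCompact ((U a ⊓ U b : Y.Opens) : Set Y) := fun a b =>
    QuasiSeparatedSpace.inter_isCompact _ _ (U a).2 (hU a).isCompact (U b).2 (hU b).isCompact
  have hunit : ∀ V : Y.Opens, IsUnit (n : Γ(Y, V)) := by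
    intro V
    have h1 : (n : Γ(Y, V)) = (ores (le_top : V ≤ ⊤)) (κ p (n : k)) := by simp
    rw [h1]
    exact ((IsUnit.mk0 _ hn).map (κ p)).map _
  obtain ⟨v, hv, hv1⟩ := exists_coc_of_pull_eq_one (U := U) i hU hc
  have hvn : ∀ a b, IsNilpotent (v a b - 1) := fun a b =>
    isNilpotent_of_app_eq_zero i (hcompact a b) (by
      rw [map_sub, hv1, map_one, sub_self])
  -- the `n`-th power is a coboundary
  have hpow := Coc.pow hv n
  rw [hcn] at hpow
  obtain ⟨g, hg⟩ := Coc.exists_units (coc_one (U := U)) hpow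
  -- `g a = v a b ^ n * g b`
  have hg' : ∀ a b, ores (inf_le_left : U a ⊓ U b ≤ U a) (g a : Γ(Y, U a)) =
      v a b ^ n * ores inf_le_right (g b : Γ(Y, U b)) := fun a b => by rw [hg, _root_.mul_one]
  have hcovZ : ⨆ a, i ⁻¹ᵁ U a = ⊤ := by
    rw [eq_top_iff]
    intro z _
    obtain ⟨a, ha⟩ := Opens.mem_iSup.1 (show i z ∈ ⨆ a, U a by rw [hcov]; trivial)
    exact Opens.mem_iSup.2 ⟨a, ha⟩
  have happ : ∀ {V V' : Y.Opens} (h : V' ≤ V) (s : Γ(Y, V)),
      (i.app V' (ores h s) : Γ(Z, i ⁻¹ᵁ V')) = ores (i.preimage_mono h) (i.app V s) := fun h s =>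
    congr($(i.naturality (homOfLE h).op) s)
  -- glue the inverses of the `i (g a)`
  obtain ⟨w, hw⟩ := ores_glue (X := Z) (V := ⊤) (fun a => i ⁻¹ᵁ U a) (fun a => le_top) hcovZ.ge
    (fun a => i.app (U a) ((g a)⁻¹ : Γ(Y, U a)ˣ)) (fun a b => by
      have h0 := congrArg (fun s => (i.app (U a ⊓ U b) s : Γ(Z, i ⁻¹ᵁ (U a ⊓ U b)))) (hg' a b)
      simp only [map_mul, map_pow, hv1, one_pow, _root_.one_mul] at h0
      have h1 : (i.app (U a ⊓ U b) (ores inf_le_left ((g a)⁻¹ : Γ(Y, U a)ˣ)) : Γ(Z, i ⁻¹ᵁ (U a ⊓ U b))) =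
          i.app (U a ⊓ U b) (ores inf_le_right ((g b)⁻¹ : Γ(Y, U b)ˣ)) := by
        have ha : i.app (U a ⊓ U b) (ores inf_le_left ((g a)⁻¹ : Γ(Y, U a)ˣ)) *
            i.app (U a ⊓ U b) (ores inf_le_left (g a : Γ(Y, U a))) = 1 := by
          rw [← map_mul, ← map_mul, Units.inv_mul, map_one, map_one]
        have hb : i.app (U a ⊓ U b) (ores inf_le_right (g b : Γ(Y, U b))) *
            i.app (U a ⊓ U b) (ores inf_le_right ((g b)⁻¹ : Γ(Y, U b)ˣ)) = 1 := by
          rw [← map_mul, ← map_mul, Units.mul_inv, map_one, map_one]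
        exact left_inv_eq_right_inv ha (by rw [h0]; exact hb)
      rw [happ, happ] at h1
      exact h1)
  obtain ⟨z, hz⟩ := exists_root_global q hn0 w
  obtain ⟨zt, hzt⟩ := appTop_surjective hq z
  -- `g' a = g a * zt ^ n` is `1` on `Z`
  let g' : ∀ a, Γ(Y, U a) := fun a => (g a : Γ(Y, U a)) * ores le_top zt ^ n
  have hg'1 : ∀ a, (i.app (U a) (g' a) : Γ(Z, i ⁻¹ᵁ U a)) = 1 := by
    intro a
    have h1 : (i.app (U a) (ores le_top zt) : Γ(Z, i ⁻¹ᵁ U a)) = ores le_top z := by
      rw [happ]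
      exact congrArg _ hzt
    rw [map_mul, map_pow, h1, ← map_pow, hz, hw, ← map_mul, Units.mul_inv, map_one]
  have hg'n : ∀ a, IsNilpotent (g' a - 1) := fun a =>
    isNilpotent_of_app_eq_zero i (hU a).isCompact (by rw [map_sub, hg'1, map_one, sub_self])
  have hg'v : ∀ a b, ores (inf_le_left : U a ⊓ U b ≤ U a) (g' a) = v a b ^ n * ores inf_le_right (g' b) := by
    intro a b
    simp only [g']
    rw [map_mul, map_mul, hg', map_pow, map_pow, ores_ores, ores_ores, mul_assoc]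
  choose h hh hhn using fun a => (existsUnique_root (hunit (U a)) (hg'n a)).exists
  have hhv : ∀ a b, ores (inf_le_left : U a ⊓ U b ≤ U a) (h a) = v a b * ores inf_le_right (h b) := by
    intro a b
    refine eq_of_pow_eq (hunit _) ?_ (isNilpotent_mul_sub_one (hvn a b) ?_) ?_
    · rw [← map_one (ores (inf_le_left : U a ⊓ U b ≤ U a)), ← map_sub]
      exact (hh a).map _
    · rw [← map_one (ores (inf_le_right : U a ⊓ U b ≤ U b)), ← map_sub]
      exact (hh b).map _
    · rw [mul_pow, ← map_pow, ← map_pow, hhn, hhn, hg'v]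
  have hfin : Coc U c (fun a b => 1) := by
    refine hv.change (fun a => (isUnit_of_nil (hh a)).unit⁻¹) _ (fun a b => ?_)
    rw [_root_.one_mul]
    have ha : ores (inf_le_left : U a ⊓ U b ≤ U a) (h a) *
        ores inf_le_left (((isUnit_of_nil (hh a)).unit⁻¹ : Γ(Y, U a)ˣ) : Γ(Y, U a)) = 1 := by
      rw [← map_mul]
      exact (congrArg _ (IsUnit.mul_val_inv (isUnit_of_nil (hh a)))).trans (map_one _)
    have hb : ores (inf_le_right : U a ⊓ U b ≤ U b) (h b) *
        ores inf_le_right (((isUnit_of_nil (hh b)).unit⁻¹ : Γ(Y, U b)ˣ) : Γ(Y, U b)) = 1 := by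
      rw [← map_mul]
      exact (congrArg _ (IsUnit.mul_val_inv (isUnit_of_nil (hh b)))).trans (map_one _)
    rw [hhv] at ha
    calc ores inf_le_right (((isUnit_of_nil (hh b)).unit⁻¹ : Γ(Y, U b)ˣ) : Γ(Y, U b))
        = ores inf_le_right (((isUnit_of_nil (hh b)).unit⁻¹ : Γ(Y, U b)ˣ) : Γ(Y, U b)) *
          (v a b * ores (inf_le_right : U a ⊓ U b ≤ U b) (h b) *
            ores inf_le_left (((isUnit_of_nil (hh a)).unit⁻¹ : Γ(Y, U a)ˣ) : Γ(Y, U a))) := by
          rw [ha, _root_.mul_one]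
      _ = (ores (inf_le_right : U a ⊓ U b ≤ U b) (h b) *
          ores inf_le_right (((isUnit_of_nil (hh b)).unit⁻¹ : Γ(Y, U b)ˣ) : Γ(Y, U b))) *
          (ores inf_le_left (((isUnit_of_nil (hh a)).unit⁻¹ : Γ(Y, U a)ˣ) : Γ(Y, U a)) * v a b) := by ring
      _ = _ := by rw [hb, _root_.one_mul]
  exact hfin.eq_one hcov

end K836.NilRoot
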