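import Groth.Agent.Pic13.K836.NilRoot
import Groth.Agent.Sga2.ThickSec
import Groth.Agent.Sga2.ESZ
import Groth.Agent.Sga2.RankOneTower
import Groth.Agent.Sga2.DepthDiv
import Groth.Agent.Ega1.ReducedSub
import Groth.Agent.AbVar.K513.Theta1
import Groth.Agent.VBCurve.K704.InvHom
import Groth.Agent.Pi1.H419.DepthDim
import Groth.Agent.S7681
import Groth.Agent.S14809

/-!
# Torsion classes trivial on an ample divisor

`eq_one`: `Y` integral normal proper over an algebraically closed field, of dimension at least two, `H` ample,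
`φ ≠ 0` a section of `H`. A class `c` with `c ^ n = 1`, `n` invertible in `k`, which is trivial on the zero scheme of
`φ` is trivial.
-/

set_option autoImplicit false
universe u

open CategoryTheory CategoryTheory.Limits AlgebraicGeometry TopologicalSpace Opposite

namespace K836.Tors

open Groth.Agent Groth.Agent.Fdesc.LocGen Groth.Agent.Grpsch.PicGrp Groth.Agent.Fga.JacFactor

/-- A normal variety of dimension at least two has depth at least two at its closed points. -/
theorem two_le_depth {k : Type u} [Field k] {X : Scheme.{u}} (p : X ⟶ Spec (CommRingCat.of k))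
    [LocallyOfFiniteType p] [IsIntegral X] (hX : _root_.Pi1.IsNormalScheme X)
    (hdim : 2 ≤ topologicalKrullDim X) (x : X) (hx : IsClosed ({x} : Set X)) :
    (2 : ℕ∞) ≤ LocCoh.depth (X.presheaf.stalk x) (X.presheaf.stalk x) := by
  have h := Pi1.H419.DepthDim.depth_add_dim p hX hdim x
  have h0 : topologicalKrullDim (closure ({x} : Set X)) ≤ 0 := by
    rw [hx.closure_eq]
    exact topologicalKrullDim_zero_of_discreteTopology _
  have h1 : (1 : WithBot ℕ∞) < (LocCoh.depth (X.presheaf.stalk x) (X.presheaf.stalk x) : WithBot ℕ∞) :=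
    lt_of_lt_of_le h ((add_le_add_right h0 _).trans (by rw [add_zero]))
  have h2 : (1 : ℕ∞) < LocCoh.depth (X.presheaf.stalk x) (X.presheaf.stalk x) := by
    exact_mod_cast h1
  exact Order.add_one_le_of_lt h2

/-- The zero scheme of a nonzero section of an invertible module on an integral scheme. -/
theorem isInverseOf_zeroScheme {Y : Scheme.{u}} [IsIntegral Y] {M : Y.Modules} (hM : PicF.IsInvertible M)
    (s : Coh.structureModule Y ⟶ M)
    (hs : s ≠ 0) : BlowUp.IsEffCartierIdeal (PicF2.zeroScheme M s) ∧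
      ClSub.IsInverseOf M (ClSub.idealMod (PicF2.zeroScheme M s)) := by
  have hI := K513.Theta1.isEffCartierIdeal_zeroScheme hM s hs
  refine ⟨hI, ?_⟩
  have h1 := Fga.ZeroClass.mk_eq_inv_dcl hM (sec s ⊤) (K513.Theta1.isZeroIdeal_zeroScheme hM s) hI
  rw [eq_inv_iff_mul_eq_one, dcl, mk_mul_mk, mk_eq_one_iff] at h1
  exact h1

/-- Enriques–Severi–Zariski for an invertible module. -/
theorem exists_van (k : Type u) [Field k] (X : Scheme.{u}) [X.Over (Spec (CommRingCat.of k))]
    [IsProper (X ↘ (Spec (CommRingCat.of k)))] (𝓘 : X.IdealSheafData) (L : X.Modules)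
    (hL : ClSub.IsInverseOf L (ClSub.idealMod 𝓘)) (hamp : CohB1.IsAmple L)
    (hdepth : ∀ x : X, IsClosed ({x} : Set X) →
      (2 : ℕ∞) ≤ LocCoh.depth (X.presheaf.stalk x) (X.presheaf.stalk x)) (R : X.Modules)
    (hR : PicF.IsInvertible R) :
    ∃ m₀ : ℕ, ∀ m, m₀ ≤ m →
      Subsingleton (Coh.HH X (CohB1.tensorMod R (CohB1.tensorPow (ClSub.idealMod 𝓘) m)) 1) := by
  have hXn : IsLocallyNoetherian X := LocallyOfFiniteType.isLocallyNoetherian (X ↘ (Spec (CommRingCat.of k)))
  obtain ⟨m₀, h⟩ := Sga2.ESZ.esz k X hL hamp R (Sga2.RankOneTower.isCoh_of_isInvertible hR) 1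
    (fun x hx => by
      obtain ⟨e⟩ := Sga2.DepthDiv.nonempty_stalkEquiv hR x
      have h1 : LocCoh.depth (X.presheaf.stalk x) (R.presheaf.stalk x) =
          LocCoh.depth (X.presheaf.stalk x) (X.presheaf.stalk x) := by
        unfold LocCoh.depth
        exact Groth.Agent.Localalg.Depth.idealDepth_congr_equiv _
          (e.trans (Groth.Agent.Fdesc.StructMod.stalkEquiv x).symm)
      rw [h1]
      refine lt_of_lt_of_le ?_ (hdepth x hx)
      exact_mod_cast Nat.one_lt_two)
  exact ⟨m₀, fun m hm => h m hm 1 le_rfl⟩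

theorem pow_succ_le_self {Y : Scheme.{u}} (D : Y.IdealSheafData) (b : ℕ) : D ^ (b + 1) ≤ D := by
  rw [pow_succ]
  exact mul_le_of_le_one_left' le_top

/-- Triviality on all thickenings of the zero scheme. -/
theorem pull_pow_eq_one {k : Type u} [Field k] [IsAlgClosed k] {Y : Scheme.{u}}
    (p : Y ⟶ Spec (CommRingCat.of k)) [IsProper p] (D : Y.IdealSheafData) {n : ℕ} (hn : (n : k) ≠ 0) {c : Pic Y}
    (hc : pull D.subschemeι c = 1) (hcn : c ^ n = 1) (b : ℕ) : pull (D ^ (b + 1)).subschemeι c = 1 := by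
  have hle : D ^ (b + 1) ≤ D := pow_succ_le_self D b
  let j := Scheme.IdealSheafData.inclusion hle
  let W := D.subscheme
  let i : W.nilradical.subscheme ⟶ W := W.nilradical.subschemeι
  have hred : IsReduced W.nilradical.subscheme := by
    rw [← Scheme.IdealSheafData.radical_bot]
    exact Ega1.ReducedSub.isReduced_subscheme_radical _
  have hi : Surjective i := ⟨by
    rw [← Set.range_eq_univ, Scheme.IdealSheafData.range_subschemeι, Scheme.support_nilradical]
    rfl⟩
  have hj : Surjective j := ⟨fun x => by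
    have h1 : (D ^ (b + 1)).subschemeι x ∈ Set.range D.subschemeι := by
      rw [Scheme.IdealSheafData.range_subschemeι, ← Scheme.IdealSheafData.support_pow_succ D b,
        ← Scheme.IdealSheafData.range_subschemeι]
      exact ⟨x, rfl⟩
    obtain ⟨w, hw⟩ := h1
    refine ⟨w, ?_⟩
    apply (D ^ (b + 1)).subschemeι.isClosedEmbedding.injective
    rw [← hw, ← Scheme.Hom.comp_apply, Scheme.IdealSheafData.inclusion_subschemeι]⟩
  have hjc : IsClosedImmersion j := by
    have : IsClosedImmersion (j ≫ (D ^ (b + 1)).subschemeι) := by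
      rw [Scheme.IdealSheafData.inclusion_subschemeι]
      infer_instance
    exact IsClosedImmersion.of_comp j (D ^ (b + 1)).subschemeι
  have hjι : j ≫ (D ^ (b + 1)).subschemeι = D.subschemeι := Scheme.IdealSheafData.inclusion_subschemeι _
  have hln : IsLocallyNoetherian (D ^ (b + 1)).subscheme :=
    LocallyOfFiniteType.isLocallyNoetherian ((D ^ (b + 1)).subschemeι ≫ p)
  refine NilRoot.eq_one (p := (D ^ (b + 1)).subschemeι ≫ p) (q := (i ≫ j) ≫ (D ^ (b + 1)).subschemeι ≫ p)
    (i := i ≫ j) rfl hn ?_ ?_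
  · rw [← pull_comp, Category.assoc, hjι, pull_comp, hc, map_one]
  · rw [← map_pow, hcn, map_one]

variable {k : Type u} [Field k] [IsAlgClosed k] {Y : Scheme.{u}} [Y.Over (Spec (CommRingCat.of k))]
  [IsProper (Y ↘ Spec (CommRingCat.of k))] [IsIntegral Y]

/-- **Torsion classes trivial on an ample divisor are trivial.** -/
theorem eq_one (hnor : _root_.Pi1.IsNormalScheme Y) (hdim : 2 ≤ topologicalKrullDim Y)
    {H : Y.Modules} (hH : CohB1.IsAmple H) (φ : Coh.structureModule Y ⟶ H) (hφ : φ ≠ 0) {n : ℕ} (hn : (n : k) ≠ 0)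
    {c : Pic Y} (hc : pull (PicF2.zeroScheme H φ).subschemeι c = 1) (hcn : c ^ n = 1) : c = 1 := by
  obtain ⟨L, hL, rfl⟩ : ∃ (L : Y.Modules) (hL : PicF.IsInvertible L), mk L hL = c :=
    Quotient.inductionOn c fun L => ⟨L.1, L.2, rfl⟩
  set D := PicF2.zeroScheme H φ with hDdef
  obtain ⟨hD, hinv⟩ := isInverseOf_zeroScheme hH.1 φ hφ
  have hdepth := two_le_depth (Y ↘ Spec (CommRingCat.of k)) hnor hdim
  -- the zero scheme is nonempty
  have hmono : Mono φ := K704.InvHom.mono_of_ne_zero isInvertible_structureModule hH.1 φ hφ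
  have hconn : ConnectedSpace D.subscheme := Groth.Agent.S7681.result k Y H hH φ hmono hdepth
  obtain ⟨m₀, hvan⟩ := exists_van k Y D H hinv hH hdepth L hL
  have hv := hvan (m₀ + 1) (by omega)
  have hsur := Sga2.ThickSec.pullTop_surjective hD hL (m₀ + 1) hv
  have htriv := pull_pow_eq_one (Y ↘ Spec (CommRingCat.of k)) D hn hc hcn m₀
  rw [pull_mk, mk_eq_one_iff] at htriv
  obtain ⟨e⟩ := htriv
  let t : Γ((Scheme.Modules.pullback (D ^ (m₀ + 1)).subschemeι).obj L, ⊤) := sec e.inv ⊤
  obtain ⟨s, hs⟩ := hsur t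
  have hs0 : homOf s ≠ 0 := by
    intro h0
    have h1 : s = 0 := by
      have h2 := sec_homOf s ⊤
      rw [h0, res_refl] at h2
      rw [← h2]
      simp [sec]
    have h2 : t = 0 := by
      have h5 : (Sga2.ThickSec.unitM (D ^ (m₀ + 1)).subschemeι L).app ⊤ (0 : Γ(L, ⊤)) = 0 := by rw [map_zero]
      rw [← hs, h1]
      exact h5
    have h3 : e.inv = 0 := by
      apply hom_ext_sec
      change t = _
      rw [h2]
      simp [sec]
    have h4 : IsZero (Coh.structureModule (D ^ (m₀ + 1)).subscheme) := by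
      rw [IsZero.iff_id_eq_zero, ← e.inv_hom_id, h3, zero_comp]
    have hne : Nonempty (D ^ (m₀ + 1)).subscheme := by
      obtain ⟨x⟩ := hconn.toNonempty
      exact ⟨Scheme.IdealSheafData.inclusion (pow_succ_le_self D m₀) x⟩
    exact K704.InvHom.not_isZero isInvertible_structureModule h4
  have hn0 : 0 < n := Nat.pos_of_ne_zero (by rintro rfl; simp at hn)
  rw [mk_eq_one_iff]
  refine Groth.Agent.S14809.result Y (isField_of_universallyClosed k (Y ↘ Spec (CommRingCat.of k))) L hL (homOf s) hs0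
    n hn0 ?_
  rw [← mk_tensorPow hL, mk_eq_one_iff] at hcn
  exact hcn

end K836.Tors
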